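import Cfsg.Agent.Mrg.Omega.NO3S.Level.Cut
import Cfsg.Agent.Mrg.Omega.NO3S.Fld.LevRed


/-!
# RED in the case (L) (helper284 #23199): the frame

`CaseL S P`, `L = V_P` natural with coordinates `M : Crd F S P L`, `R = M.R`; `X ∈ P(S)` centralises `Z`, moves `R`,
`J(S) ≤ O₂(X)` (`Rx`).

* `DX S P X` : the largest weakly closed subgroup of `S` in `O₂(P) ∩ O₂(X)`, `GX S P X = N_G(DX)`;
* `principle` : **(P_X)** a `GX`-closed family with a member in `S` not in `DX` has a member in `S` which is not in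
  `O₂(P)` or not in `O₂(X)`;
* `Rx.lev`, `Rx.P_le`, `Rx.X_le`, `Rx.par_le`, `Rx.NS_le` : `DX` is a level; `P, X, P*(S), N_G(S) ≤ GX`;
* `Rx.cs` : `C_S(V) = DX` for `V_P ≤ V ≤ Ω₁(Z(DX))`, `V` normal in `GX`.
-/

set_option autoImplicit false
set_option linter.unusedSectionVars false

namespace Cfsg.Agent.Omega.NO3S.RedC

open Subgroup Cfsg Cfsg.Agent.ZN Cfsg.Agent.ZN.ChoiceBase Cfsg.Agent.Omega.MinPar Cfsg.Agent.Omega.Frame
open Cfsg.Agent.ZN.ChoiceSit (Syl)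
open Cfsg.Agent.Omega.FrameNOFF (CZ)
open Cfsg.Agent.Omega.NO3b.Wc (WC cj_sSup)
open Cfsg.Agent.Omega.NO3b.EZero (cl cl_le le_cl oddGen_sup_syl)
open Cfsg.Agent.MinSimple.VModule (oddGen zc_le_zl)
open Cfsg.Agent.Omega.NO3S.Level
open Cfsg.Agent.Omega.NO3S.Fld (Crd)

universe u

variable {G : Type u} [Group G] [Finite G]

/-- The largest weakly closed subgroup of `S` in `O₂(P) ∩ O₂(X)`. -/
def DX (S P X : Subgroup G) : Subgroup G := sSup {B | WC S B ∧ B ≤ o2 P ∧ B ≤ o2 X}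

/-- `N_G(DX)` -/
def GX (S P X : Subgroup G) : Subgroup G := normalizer (DX S P X : Set G)

theorem wc_DX (S P X : Subgroup G) : WC S (DX S P X) := WC.sSup fun _ hb => hb.1

theorem DX_le (S P X : Subgroup G) : DX S P X ≤ S := (wc_DX S P X).le

theorem DX_le_P (S P X : Subgroup G) : DX S P X ≤ o2 P := sSup_le fun _ hb => hb.2.1

theorem DX_le_X (S P X : Subgroup G) : DX S P X ≤ o2 X := sSup_le fun _ hb => hb.2.2

theorem le_DX {S P X B : Subgroup G} (hB : WC S B) (h1 : B ≤ o2 P) (h2 : B ≤ o2 X) : B ≤ DX S P X :=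
  le_sSup ⟨hB, h1, h2⟩

theorem mem_GX {S P X : Subgroup G} {g : G} (hg : cj g (DX S P X) ≤ S) : g ∈ GX S P X :=
  WC.mem_norm (wc_DX S P X) hg

theorem norm_le_GX {S P X T : Subgroup G} (h1 : DX S P X ≤ T) (h2 : T ≤ S) : normalizer (T : Set G) ≤ GX S P X :=
  WC.norm_le (wc_DX S P X) h1 h2

theorem S_le_GX (S P X : Subgroup G) : S ≤ GX S P X := le_normalizer.trans (norm_le_GX (DX_le S P X) le_rfl)

theorem GX_norm (S P X : Subgroup G) : GX S P X ≤ normalizer (zc (DX S P X) : Set G) := normalizer_le_zc _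

/-- **(P_X)** -/
theorem principle {S P X : Subgroup G} {F : Set (Subgroup G)} (hF : ∀ A ∈ F, ∀ n ∈ GX S P X, cj n A ∈ F)
    {A : Subgroup G} (hA : A ∈ F) (hAS : A ≤ S) (hAD : ¬ A ≤ DX S P X) :
    ∃ B ∈ F, B ≤ S ∧ (¬ B ≤ o2 P ∨ ¬ B ≤ o2 X) := by
  by_contra hcon
  have hcon' : ∀ B ∈ F, B ≤ S → B ≤ o2 P ∧ B ≤ o2 X := by
    intro B hB hBS
    by_contra h1
    exact hcon ⟨B, hB, hBS, not_and_or.1 h1⟩
  set K : Subgroup G := DX S P X ⊔ sSup {B | B ∈ F ∧ B ≤ S} with hK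
  have hKS : K ≤ S := sup_le (DX_le _ _ _) (sSup_le fun B hB => hB.2)
  have hKW : K ≤ DX S P X := by
    refine le_DX ⟨hKS, fun g hg => ?_⟩ (sup_le (DX_le_P _ _ _) (sSup_le fun B hB => (hcon' B hB.1 hB.2).1))
      (sup_le (DX_le_X _ _ _) (sSup_le fun B hB => (hcon' B hB.1 hB.2).2))
    have h2 : g ∈ GX S P X := mem_GX ((cj_mono g le_sup_left).trans hg)
    have h4 : cj g K ≤ K := by
      change Subgroup.map _ _ ≤ _
      rw [hK, Subgroup.map_sup]
      refine sup_le_sup (cj_eq_of_mem_normalizer h2).le ?_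
      change cj g (sSup {B | B ∈ F ∧ B ≤ S}) ≤ _
      rw [cj_sSup]
      refine iSup_le fun B => ?_
      have h5 : cj g (B : Subgroup G) ≤ S := (cj_mono g ((le_sSup B.2).trans le_sup_right)).trans hg
      exact le_sSup (a := cj g (B : Subgroup G)) ⟨hF _ B.2.1 g h2, h5⟩
    exact Subgroup.eq_of_le_of_card_ge h4 (card_cj _ _).ge
  have h6 : A ≤ K := (le_sSup (s := {B | B ∈ F ∧ B ≤ S}) ⟨hA, hAS⟩).trans le_sup_right
  exact hAD (h6.trans hKW)

variable {S : Sylow 2 G} {P X : Subgroup G} {F : Type*} [Field F]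

/-- **The situation**: `X ∈ P(S)` in `C_G(Z)` moves `R`, `J(S) ≤ O₂(X)`. -/
structure Rx (S : Sylow 2 G) (P X : Subgroup G) (M : Crd F (S : Subgroup G) P (zl (S : Subgroup G) P)) : Prop where
  cl : CaseL S P
  par : IsPar (S : Subgroup G) X
  le : X ≤ CZ (S : Subgroup G)
  mv : ¬ X ≤ normalizer (M.R : Set G)
  jX : jj (S : Subgroup G) ≤ o2 X

namespace Rx

variable {M : Crd F (S : Subgroup G) P (zl (S : Subgroup G) P)} (h : Rx S P X M)
include h

theorem hG : IsCharacteristicTwoType G := h.cl.ctx.char2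

theorem hyp : Hyp S P := h.cl.hypN.toHyp

theorem parP : IsParS (S : Subgroup G) P := h.cl.pss.par

theorem syl : Syl (S : Subgroup G) X :=
  ⟨h.par.le, S.isPGroup', fun _ _ hT hST => S.is_maximal' hT hST⟩

theorem S_X : (S : Subgroup G) ≤ X := h.par.le

theorem o2X_le : o2 X ≤ (S : Subgroup G) := ChoiceSit.o2_le_syl h.syl

theorem o2P_le : o2 P ≤ (S : Subgroup G) := h.parP.isLoc.o2_le S

theorem jP : jj (S : Subgroup G) ≤ o2 P := h.cl.hj P h.parP

theorem jD : jj (S : Subgroup G) ≤ DX (S : Subgroup G) P X := le_DX (wc_jj S) h.jP h.jX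

/-- `DX` is a level. -/
theorem lev : Lev (S : Subgroup G) (DX (S : Subgroup G) P X) where
  le := DX_le _ _ _
  jjle := h.jD
  norm := fun _ h1 h2 => norm_le_GX h1 h2

theorem P_le : P ≤ GX (S : Subgroup G) P X := h.lev.le_norm_of_o2 (DX_le_P _ _ _) h.o2P_le

theorem X_le : X ≤ GX (S : Subgroup G) P X := h.lev.le_norm_of_o2 (DX_le_X _ _ _) h.o2X_le

theorem S_le : (S : Subgroup G) ≤ GX (S : Subgroup G) P X := S_le_GX _ _ _

theorem par_le {R : Subgroup G} (hR : IsParS (S : Subgroup G) R) : R ≤ GX (S : Subgroup G) P X :=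
  h.lev.le_norm_of_o2 ((DX_le_P _ _ _).trans (h.cl.o2_le hR)) (hR.isLoc.o2_le S)

theorem NS_le : normalizer ((S : Subgroup G) : Set G) ≤ GX (S : Subgroup G) P X := norm_le_GX (DX_le _ _ _) le_rfl

/-- `V_P ≤ Ω₁(Z(DX))` -/
theorem L_le : zl (S : Subgroup G) P ≤ zc (DX (S : Subgroup G) P X) := by
  rw [← h.cl.zc_eq]
  exact h.lev.zc_o2_le (DX_le_P _ _ _) h.o2P_le

theorem o2X_le_V : zc (o2 X) ≤ zc (DX (S : Subgroup G) P X) := h.lev.zc_o2_le (DX_le_X _ _ _) h.o2X_le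

theorem Z_le : zc (S : Subgroup G) ≤ zc (DX (S : Subgroup G) P X) := h.lev.zc_le

theorem D_cent : DX (S : Subgroup G) P X ≤ centralizer (zc (DX (S : Subgroup G) P X) : Set G) :=
  Level.le_centralizer_zc _

theorem V_le_S : zc (DX (S : Subgroup G) P X) ≤ (S : Subgroup G) := (ZN.zc_le _).trans (DX_le _ _ _)

theorem V_sq : ∀ v ∈ zc (DX (S : Subgroup G) P X), v ^ 2 = 1 := fun _ hv => (ChoiceBase.mem_zc.1 hv).2.1

theorem V_comm : zc (DX (S : Subgroup G) P X) ≤ centralizer (zc (DX (S : Subgroup G) P X) : Set G) := fun _ hx =>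
  mem_centralizer_iff.2 fun _ hy => Lev.zc_comm hy hx

/-- `⟨Y^X⟩ ≤ V` for `Y ≤ V`, `V` normal in `GX` -/
theorem cl_le_V {V Y : Subgroup G} (hV : GX (S : Subgroup G) P X ≤ normalizer (V : Set G)) (hY : Y ≤ V) :
    NO3b.EZero.cl Y X ≤ V := cl_le fun x hx => by
  have h1 := cj_mono x hY
  rwa [cj_eq_of_mem_normalizer (hV (h.X_le hx))] at h1

/-- `C_S(V) ≤ O₂(X)` for `R ≤ V`, `V` normal in `X` -/
theorem cs_le_X {V : Subgroup G} (hV : X ≤ normalizer (V : Set G)) (hR : M.R ≤ V) :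
    (S : Subgroup G) ⊓ centralizer (V : Set G) ≤ o2 X := by
  have hXX : X ≤ normalizer ((X ⊓ centralizer (V : Set G) : Subgroup G) : Set G) :=
    NO3b.EZero.le_normalizer_inf_cent hV
  rcases NO3b.K0.min_or h.syl h.par.toIsMinPar (K := X ⊓ centralizer (V : Set G)) inf_le_left hXX with h2 | h2
  · exfalso
    apply h.mv
    have h3 : oddGen X ≤ centralizer (M.R : Set G) := (h2.trans inf_le_right).trans (centralizer_le hR)
    rw [← oddGen_sup_syl h.syl]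
    exact sup_le (h3.trans (centralizer_le_normalizer _)) M.S_R
  · exact (le_inf inf_le_left (le_inf (inf_le_left.trans h.S_X) inf_le_right)).trans h2

/-- `C_S(V) = DX` for `V_P ≤ V ≤ Ω₁(Z(DX))`, `V` normal in `GX`. -/
theorem cs {V : Subgroup G} (h1 : zl (S : Subgroup G) P ≤ V) (h2 : V ≤ zc (DX (S : Subgroup G) P X))
    (h3 : GX (S : Subgroup G) P X ≤ normalizer (V : Set G)) :
    (S : Subgroup G) ⊓ centralizer (V : Set G) = DX (S : Subgroup G) P X := by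
  have hK : DX (S : Subgroup G) P X ≤ (S : Subgroup G) ⊓ centralizer (V : Set G) :=
    le_inf (DX_le _ _ _) (h.D_cent.trans (centralizer_le h2))
  refine le_antisymm (le_DX ⟨inf_le_left, fun g hg => ?_⟩ ?_ ?_) hK
  · have h4 : g ∈ GX (S : Subgroup G) P X := mem_GX ((cj_mono g hK).trans hg)
    have h5 : cj g V = V := cj_eq_of_mem_normalizer (h3 h4)
    have h6 : cj g ((S : Subgroup G) ⊓ centralizer (V : Set G)) ≤ (S : Subgroup G) ⊓ centralizer (V : Set G) := by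
      refine le_inf hg ?_
      rw [cj_inf, cj_centralizer, h5]
      exact inf_le_right
    exact Subgroup.eq_of_le_of_card_ge h6 (card_cj _ _).ge
  · rw [← IsParS.inf_centralizer S h.hG h.parP]
    exact inf_le_inf_left _ (centralizer_le h1)
  · exact h.cs_le_X (h.X_le.trans h3) (M.R_le.trans h1)

/-- `⟨Z^GX⟩ ≤ Ω₁(Z(DX))`, `V_P ≤ ⟨Z^GX⟩` -/
theorem zl_GX_le : zl (S : Subgroup G) (GX (S : Subgroup G) P X) ≤ zc (DX (S : Subgroup G) P X) :=
  ZN.zl_le h.Z_le (GX_norm _ _ _)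

theorem L_le_zl : zl (S : Subgroup G) P ≤ zl (S : Subgroup G) (GX (S : Subgroup G) P X) :=
  ZN.zl_le ZN.zc_le_zl (h.P_le.trans (ZN.le_normalizer_zl _ _))

theorem cs_zl : (S : Subgroup G) ⊓ centralizer (zl (S : Subgroup G) (GX (S : Subgroup G) P X) : Set G) =
    DX (S : Subgroup G) P X := h.cs h.L_le_zl h.zl_GX_le (ZN.le_normalizer_zl _ _)

theorem cs_V : (S : Subgroup G) ⊓ centralizer (zc (DX (S : Subgroup G) P X) : Set G) = DX (S : Subgroup G) P X :=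
  h.cs h.L_le le_rfl (GX_norm _ _ _)

/-- **(P_X)** for 2-subgroups of `GX` which move `V`. -/
theorem prin {V : Subgroup G} (h2 : V ≤ zc (DX (S : Subgroup G) P X)) {B : Subgroup G}
    (hB : B ≤ GX (S : Subgroup G) P X) (hB2 : IsPGroup 2 B) (hne : ¬ B ≤ centralizer (V : Set G))
    {𝓕 : Set (Subgroup G)} (h𝓕 : ∀ A ∈ 𝓕, ∀ n ∈ GX (S : Subgroup G) P X, cj n A ∈ 𝓕) (hB𝓕 : B ∈ 𝓕) :
    ∃ A ∈ 𝓕, A ≤ (S : Subgroup G) ∧ (¬ A ≤ o2 P ∨ ¬ A ≤ o2 X) := by
  obtain ⟨n, hn, hnS⟩ := FFThm.exists_conj_le S h.S_le hB2 hB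
  refine principle h𝓕 (h𝓕 B hB𝓕 n hn) hnS fun h1 => ?_
  have h3 := cj_mono n⁻¹ h1
  rw [cj_inv_cj, cj_eq_of_mem_normalizer (inv_mem hn : n⁻¹ ∈ normalizer (DX (S : Subgroup G) P X : Set G))] at h3
  exact hne (h3.trans (h.D_cent.trans (centralizer_le h2)))

end Rx

end Cfsg.Agent.Omega.NO3S.RedC
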